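import Cfsg.Agent.H858.Data

/-!
# Labels of the elements of `2^11` (helper795, S5580, JM-F11): data and checks

Labels `v < 2048` of the elements `V v` of `EJ`; `dm` is the mask of the 276 duads (class 2B); `fb` is the list
of the 32 elements of `[V, XM]`, all sextets; `lns` are the five lines in `fb`, all through the sextet `20`.
-/

set_option autoImplicit false

open Cfsg

namespace Cfsg.Agent.H795.JM

open Cfsg.Agent.J4.M24Hom Cfsg.Agent.J4.Nodes Cfsg.Agent.J4.Beta Cfsg.Agent.J4.Classes
open Cfsg.Agent.J4.ClassesData Cfsg.Agent.J4.ClassesAbs Cfsg.Agent.H858 Cfsg.Agent.H858.VK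

/-- the mask of the duads -/
def dm : ℕ := nat_lit 505076499460793954935938484626134891784391843880328121055843326531295412629904696896955692172898454655086360507597525246270881981239231198159284450773574174334300782350834256839937681440331993149328473138034016111276231906621001598760510139847197682885969749192851951527214377847332539231074156954504452835259765983812153163254060833292330302230891415616772310791854138749387866979208497009310101863300052086997983651654062031251052201991162895847234216964905021762090991862592337634341491629447969461462716112569656507115691026026842226482656829129568342705292904024640031310227824313158329360587308883657592324128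

/-- is it a duad? -/
def isB (v : ℕ) : Bool := Nat.beq (Nat.land 1 (Nat.shiftRight dm v)) 1

/-- the list of the duads -/
def dl : List ℕ :=
  [5, 14, 15, 17, 26, 27, 33, 40, 47, 61, 66, 70, 73, 75, 89, 90, 97, 110, 121, 124, 130, 131, 143,
  149, 166, 169, 171, 183, 184, 191, 192, 200, 217, 219, 224, 226, 230, 237, 241, 253, 264, 270,
  275, 279, 280, 287, 288, 290, 307, 315, 321, 325, 334, 337, 341, 346, 357, 376, 377, 383, 403,
  405, 406, 410, 416, 419, 423, 424, 433, 440, 453, 454, 459, 467, 482, 484, 488, 494, 495, 496,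
  499, 505, 506, 507, 513, 522, 528, 539, 551, 552, 582, 586, 589, 592, 622, 624, 653, 654, 662,
  667, 670, 671, 679, 680, 689, 690, 692, 698, 701, 703, 707, 709, 713, 717, 719, 723, 737, 738,
  745, 763, 774, 781, 783, 789, 802, 808, 812, 818, 821, 831, 870, 879, 890, 893, 894, 895, 896,
  926, 938, 944, 950, 957, 983, 984, 1000, 1001, 1010, 1011, 1028, 1034, 1045, 1051, 1063, 1067,
  1082, 1083, 1084, 1086, 1089, 1095, 1103, 1112, 1120, 1150, 1154, 1165, 1186, 1187, 1195, 1196,
  1197, 1198, 1201, 1204, 1217, 1218, 1224, 1227, 1228, 1234, 1251, 1252, 1258, 1276, 1284, 1287,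
  1290, 1304, 1317, 1319, 1327, 1335, 1337, 1341, 1382, 1385, 1412, 1434, 1448, 1461, 1463, 1467,
  1475, 1483, 1486, 1487, 1496, 1502, 1506, 1516, 1527, 1529, 1537, 1541, 1547, 1553, 1555, 1557,
  1558, 1561, 1564, 1567, 1576, 1577, 1578, 1584, 1616, 1621, 1632, 1647, 1656, 1661, 1666, 1668,
  1674, 1687, 1697, 1700, 1701, 1712, 1713, 1717, 1737, 1742, 1749, 1752, 1787, 1790, 1793, 1796,
  1825, 1830, 1847, 1850, 1857, 1859, 1862, 1877, 1880, 1885, 1901, 1908, 1912, 1914, 1920, 1923,
  1926, 1935, 1979, 1982, 1990, 1991, 1998, 2004, 2030, 2042]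

/-- the elements of `[V, XM]` -/
def fb : List ℕ :=
  [0, 10, 20, 30, 160, 170, 180, 190, 320, 330, 340, 350, 480, 490, 500, 510, 1536, 1546, 1556,
  1566, 1696, 1706, 1716, 1726, 1856, 1866, 1876, 1886, 2016, 2026, 2036, 2046]

/-- preimages -/
def fbp : List ℕ :=
  [0, 2, 1, 3, 32, 34, 33, 35, 64, 66, 65, 67, 96, 98, 97, 99, 512, 514, 513, 515, 544, 546, 545,
  547, 576, 578, 577, 579, 608, 610, 609, 611]


/-- the lines in `fb`: words and elements -/
def lns : List (List ℕ × List ℕ) := [
  ([1, 0, 2, 0, 1],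
    [0, 20, 170, 190, 1536, 1556, 1706, 1726]),
  ([2, 0, 2, 0, 1, 0, 1, 0, 2, 0, 2, 0, 1, 0, 1, 0, 1, 0, 1],
    [0, 20, 320, 340, 1546, 1566, 1866, 1886]),
  ([1, 0, 1, 0, 1, 0, 2, 0, 2, 0, 1, 0, 1, 0, 1, 0, 1, 0, 2, 0, 1, 0, 1],
    [0, 10, 20, 30, 2016, 2026, 2036, 2046]),
  ([1, 0, 2, 0, 2, 0, 2, 0, 1, 0, 1, 0, 1, 0, 2, 0, 1, 0, 2, 0, 1, 0, 1],
    [0, 20, 480, 500, 1696, 1716, 1856, 1876]),
  ([2, 0, 2, 0, 1, 0, 1, 0, 2, 0, 1, 0, 2, 0, 1, 0, 2, 0, 1, 0, 2, 0, 2, 0, 1],
    [0, 20, 160, 180, 330, 350, 490, 510])]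

/-- words of elements commuting with the involution of type `1^8 2^8`, and their matrices -/
def cw1 : List (List ℕ × List ℕ) := [
  ([1, 0, 2, 0, 2, 0, 2, 0],
    [1219, 1699, 534, 1469, 1996, 8, 1658, 1741, 1036, 772, 752]),
  ([2, 0, 1, 0, 2, 0, 1, 0, 2, 0, 2, 0, 1, 0, 2, 0, 1, 0, 1, 0],
    [94, 2029, 560, 1132, 740, 1476, 538, 730, 1450, 1834, 1594]),
  ([2, 0, 1, 0, 2, 0, 2, 0, 1, 0, 1, 0, 2, 0, 1, 0, 2, 0, 2, 0, 1, 0, 1, 0],
    [1238, 1119, 1235, 388, 1473, 1149, 1175, 1361, 394, 1894, 1162])]

/-- words of elements commuting with `XM`, and their matrices -/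
def cw2 : List (List ℕ × List ℕ) := [
  ([0],
    [21, 8, 16, 2, 4, 128, 256, 32, 64, 1024, 512]),
  ([1, 0, 1, 0, 2, 0, 1, 0, 1, 0, 2, 0, 1, 0, 1, 0, 2],
    [2020, 746, 501, 1450, 481, 1751, 524, 1833, 1042, 853, 1345]),
  ([1, 0, 1, 0, 2, 0, 2, 0, 1, 0, 1, 0, 2, 0, 2, 0, 1, 0, 1],
    [176, 772, 501, 1104, 481, 8, 1996, 2, 1906, 1765, 1957])]

/-! ### Checks -/

theorem dl_check : ((List.range 2048).all fun v => cond (isB v) (dl.any (Nat.beq v)) true) = true := by
  decide +kernel

theorem dl_check2 : (dl.all fun e => cond (Nat.blt e 2048) (isB e) false) = true := by decide +kernel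

/-- the duads are the elements of the second orbit -/
theorem pos_check : ((List.range 2048).all fun v => cond (Nat.beq v 0) true
    (cond (isB v) (Nat.ble 1771 (tget pos 11 v)) (Nat.blt (tget pos 11 v) 1771))) = true := by
  decide +kernel

theorem fb_check : ((List.range 2048).all fun v => fb.any (Nat.beq (Nat.xor v (lin Ax v)))) = true := by
  decide +kernel

theorem fb_check2 : (fb.all fun f => cond (Nat.blt f 2048) (cond (isB f) false
    (fbp.any fun p => Nat.beq (Nat.xor p (lin Ax p)) f)) false) = true := by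
  decide +kernel

theorem fb_nodup : fb.Nodup := by decide +kernel

/-- the relation `R` -/
def rr (a b e : ℕ) : Bool :=
  cond (isB (Nat.xor a e)) (cond (isB (Nat.xor b e)) (isB (Nat.xor (Nat.xor a b) e)) false) false

/-- `20` is related to all elements of `fb` -/
theorem rr_twenty : (fb.all fun v => dl.any fun e => rr 20 v e) = true := by decide +kernel

/-- related elements of `fb` are on a line -/
def onl (a b : ℕ) : Bool := cond (Nat.beq a 0) true (cond (Nat.beq b 0) true (cond (Nat.beq a b) true
  (lns.any fun l => cond (l.2.any (Nat.beq a)) (l.2.any (Nat.beq b)) false)))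

theorem rr_onl : (fb.all fun a => fb.all fun b => cond (onl a b) true
    (dl.all fun e => cond (rr a b e) false true)) = true := by decide +kernel

/-- an element which is on a line with `b` and with `b'`, not on a line, is `0` or `20` -/
theorem onl_two : (fb.all fun a => fb.all fun b => cond (onl a b) true
    (fb.all fun v => cond (Nat.beq v 0) true (cond (Nat.beq v 20) true
      (cond (onl v a) (cond (onl v b) false true) true)))) = true := by decide +kernel

/-- the lines are images of the standard line -/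
theorem lns_check : (lns.all fun l => l.2.all fun a => (List.range 8).any fun u =>
    Nat.beq a (actG Ax Ay l.1 (lin Data.zl u))) = true := by decide +kernel

theorem cw1_check : (cw1.all fun p => cond (Nat.beq (wordP (p.1 ++ w1)) (wordP (w1 ++ p.1)))
    (p.2 == mat p.1) false) = true := by decide +kernel

theorem cw2_check : (cw2.all fun p => cond (Nat.beq (wordP (p.1 ++ [0])) (wordP ([0] ++ p.1)))
    (p.2 == mat p.1) false) = true := by decide +kernel

theorem cw1_fix : ((List.range 2048).all fun v => cond (Nat.beq v 0) true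
    (cw1.any fun p => cond (Nat.beq (lin p.2 v) v) false true)) = true := by decide +kernel

theorem cw2_fix : ((List.range 2048).all fun v => cond (Nat.beq v 0) true (cond (Nat.beq v 20) true
    (cw2.any fun p => cond (Nat.beq (lin p.2 v) v) false true))) = true := by decide +kernel

end Cfsg.Agent.H795.JM
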